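import Cfsg.Agent.H383.Pi.SemiU
import Cfsg.Agent.H749.Herm
import Cfsg.Agent.H105.SzU1
import Cfsg.Agent.H989.TW.Comp
import Cfsg.Agent.S0278
import Cfsg.Agent.S0827

/-!
# S4324: the special unitary groups are good (helper383)

* `semiGood_su`, `lin_su`, `su_two_semi`;
* `sgood_su`.
-/

set_option autoImplicit false
set_option linter.unusedSectionVars false

namespace Cfsg.Agent.H383.Pi

open Module Subgroup Cfsg Cfsg.Agent.H809.Sec Cfsg.Agent.H951 Cfsg.Agent.H63.GU
open Cfsg.Agent.BpCl (Semi Iso)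
open Cfsg.Agent.LieClassical.HermBasic Cfsg.Agent.LieClassical.HermSiegel
open Cfsg.Agent.H105.SzU (rhoU rhoU_apply rhoU_injective)
open scoped Matrix

universe u v

variable {F : Type u} {W : Type v} [Field F] [Finite F] [AddCommGroup W] [Module F W] [FiniteDimensional F W]
  {q : ℕ} {h : W → W → F}

theorem exists_sigma (hF : Nat.card F = q ^ 2) : ∃ σ : F ≃+* F, ∀ a, σ a = a ^ q := by
  let _ := Fintype.ofFinite F
  exact ⟨LieClassical.HermBasic.conj (by rw [← Nat.card_eq_fintype_card]; exact hF), fun a => rfl⟩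

theorem frm_of (hF : Nat.card F = q ^ 2) {σ : F ≃+* F} (hσ : ∀ a, σ a = a ^ q)
    (hadd : ∀ u v w, h (u + v) w = h u w + h v w)
    (hsmul : ∀ (a : F) u v, h (a • u) v = a * h u v) (hsymm : ∀ u v, h v u = h u v ^ q) :
    Frm (σ : F →+* F) 1 h :=
  ⟨hadd, hsmul, fun u v => by rw [one_mul, hsymm]; exact (hσ _).symm, sig_sq hF hσ, one_ne_zero⟩

/-- **semilinear maps commuting with `SU` modulo scalars, dimension at least 3** -/
theorem semiGood_su (hF : Nat.card F = q ^ 2) (hadd : ∀ u v w, h (u + v) w = h u w + h v w)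
    (hsmul : ∀ (a : F) u v, h (a • u) v = a * h u v) (hsymm : ∀ u v, h v u = h u v ^ q)
    (hnd : ∀ u, (∀ v, h u v = 0) → u = 0) (h3 : 3 ≤ Module.finrank F W) (φ : F ≃+* F) :
    SemiGood (Iso h ⊓ (LinearEquiv.det (R := F) (M := W)).ker) φ := by
  obtain ⟨σ, hσ⟩ := exists_sigma hF
  have hB := frm_of hF hσ hadd hsmul hsymm
  intro g hg hc
  exact isSc_of_sing hB (sig_ne hF hσ) hnd h3 hg fun u hu => sing_eig hB (sig_ne hF hσ) hnd hg hc hu

/-- linear maps commuting with `SU` modulo scalars -/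
theorem lin_su (hF : Nat.card F = q ^ 2) (hadd : ∀ u v w, h (u + v) w = h u w + h v w)
    (hsmul : ∀ (a : F) u v, h (a • u) v = a * h u v) (hsymm : ∀ u v, h v u = h u v ^ q)
    (hnd : ∀ u, (∀ v, h u v = 0) → u = 0) (h2 : 2 ≤ Module.finrank F W) (g : W ≃ₗ[F] W)
    (hc : ∀ y ∈ Iso h ⊓ (LinearEquiv.det (R := F) (M := W)).ker, ∃ c : F, ∀ v, g (y v) = c • y (g v)) :
    IsSc F (⇑g) := by
  obtain ⟨σ, hσ⟩ := exists_sigma hF
  have hB := frm_of hF hσ hadd hsmul hsymm
  have hg : Semi (RingEquiv.refl F) g.toEquiv := ⟨fun u v => map_add g u v, fun a v => map_smul g a v⟩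
  have hs : ∀ u, h u u = 0 → ∃ c : F, g u = c • u := fun u hu => sing_eig hB (sig_ne hF hσ) hnd hg hc hu
  rcases Nat.lt_or_ge 2 (finrank F W) with h3 | h3
  · exact isSc_of_sing hB (sig_ne hF hσ) hnd h3 hg hs
  · exact isSc_of_sing_two hB (sig_ne hF hσ) hnd (by omega) hs

theorem two_le_q (hF : Nat.card F = q ^ 2) : 2 ≤ q := by
  have h1 : 1 < Nat.card F := Finite.one_lt_card
  rw [hF] at h1
  by_contra hq
  have : q = 0 ∨ q = 1 := by omega
  rcases this with rfl | rfl <;> simp at h1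

/-- an element of order `q + 1` -/
theorem exists_zeta (hF : Nat.card F = q ^ 2) : ∃ z : Fˣ, orderOf z = q + 1 := by
  have hq := two_le_q hF
  obtain ⟨γ, hγ⟩ := IsCyclic.exists_ofOrder_eq_natCard (α := Fˣ)
  rw [Nat.card_units, hF] at hγ
  have h1 : q ^ 2 - 1 = (q - 1) * (q + 1) := by
    obtain ⟨k, rfl⟩ : ∃ k, q = k + 1 := ⟨q - 1, by omega⟩
    have : (k + 1) ^ 2 = k * (k + 1 + 1) + 1 := by ring
    rw [this]; simp
  refine ⟨γ ^ (q - 1), ?_⟩
  rw [orderOf_pow_of_dvd (by omega) (by rw [hγ, h1]; exact dvd_mul_right _ _), hγ, h1]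
  exact Nat.mul_div_cancel_left _ (by omega)

/-- an automorphism fixing an element of order `q + 1` is trivial -/
theorem refl_of_fix (hF : Nat.card F = q ^ 2) {φ : F ≃+* F} {z : Fˣ} (hz : orderOf z = q + 1) (hφ : φ z = z) :
    ∀ a, φ a = a := by
  have hq := two_le_q hF
  let _ := Fintype.ofFinite F
  let K := Cfsg.Agent.BpCl.K0 φ
  let _ : Fintype K := Fintype.ofFinite K
  have hcard : Nat.card F = Nat.card K ^ finrank K F := Module.natCard_eq_pow_finrank
  have hz' : (z : F) ∈ K := hφ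
  -- `q + 1` divides `|K| - 1`
  have h1 : q + 1 ∣ Nat.card K - 1 := by
    have h2 : (⟨(z : F), hz'⟩ : K) ≠ 0 := fun h => z.ne_zero (congrArg Subtype.val h)
    have h3 : (⟨(z : F), hz'⟩ : K) ^ (Nat.card K - 1) = 1 := by
      rw [Nat.card_eq_fintype_card]
      exact FiniteField.pow_card_sub_one_eq_one _ h2
    rw [← hz]
    apply orderOf_dvd_of_pow_eq_one
    apply Units.ext
    rw [Units.val_pow_eq_pow_val, Units.val_one]
    exact congrArg Subtype.val h3
  have hK1 : 1 < Nat.card K := Finite.one_lt_card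
  have h2 : q + 1 ≤ Nat.card K - 1 := Nat.le_of_dvd (by omega) h1
  have h3 : finrank K F = 1 := by
    have h4 : 0 < finrank K F := finrank_pos
    by_contra hne
    have h5 : 2 ≤ finrank K F := by omega
    have h6 : Nat.card K ^ 2 ≤ Nat.card K ^ finrank K F := Nat.pow_le_pow_right (by omega) h5
    rw [← hcard, hF] at h6
    have h7 := (Nat.pow_le_pow_iff_left (by norm_num)).1 h6
    omega
  have h4 : Nat.card K = Nat.card F := by rw [hcard, h3, pow_one]
  have h5 : (K : Set F) = Set.univ := by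
    have h6 : Function.Injective (Subtype.val : K → F) := Subtype.val_injective
    have h7 : Function.Surjective (Subtype.val : K → F) :=
      (h6.bijective_of_nat_card_le (by rw [h4])).surjective
    ext x
    obtain ⟨y, rfl⟩ := h7 x
    simp
  intro a
  have : a ∈ (K : Set F) := by rw [h5]; trivial
  exact this

/-- **the plane**: a semilinear similitude with a nonsingular eigenvector -/
theorem su_two_semi' (hF : Nat.card F = q ^ 2) (hadd : ∀ u v w, h (u + v) w = h u w + h v w)
    (hsmul : ∀ (a : F) u v, h (a • u) v = a * h u v) (hsymm : ∀ u v, h v u = h u v ^ q)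
    (hnd : ∀ u, (∀ v, h u v = 0) → u = 0) (h2 : Module.finrank F W = 2)
    {φ : F ≃+* F} {g : Equiv.Perm W} (hg : Semi φ g) {c : F} (hgh : ∀ u v, h (g u) (g v) = c * φ (h u v))
    (hcomm : ∀ y ∈ Iso h ⊓ (LinearEquiv.det (R := F) (M := W)).ker, ∃ c : F, ∀ v, g (y v) = c • y (g v))
    {w : W} (hw : h w w ≠ 0) (hgw : ∃ a : F, g w = a • w) : IsSc F (⇑g) := by
  obtain ⟨σ, hσ⟩ := exists_sigma hF
  have hB := frm_of hF hσ hadd hsmul hsymm
  have hne := sig_ne hF hσ
  have hs : ∀ u, h u u = 0 → ∃ c : F, g u = c • u := fun u hu => sing_eig hB hne hnd hg hcomm hu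
  obtain ⟨a, ha⟩ := hgw
  have hw0 : w ≠ 0 := by rintro rfl; exact hw (hB.zero_left 0)
  have ha0 : a ≠ 0 := by
    rintro rfl
    rw [zero_smul] at ha
    exact hw0 (g.injective (ha.trans hg.zero.symm))
  have hperp := finrank_perp hB hnd (F ∙ w)
  rw [finrank_span_singleton hw0, h2] at hperp
  obtain ⟨w', hw', hspan⟩ := finrank_eq_one_iff'.1 (show finrank F ↥(hB.perp (F ∙ w)) = 1 by omega)
  have hww' : h w w' = 0 := (mem_perp_span hB).1 w'.2
  have hw'w : h w' w = 0 := hB.eq_zero_comm.1 hww'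
  have hw'0 : (w' : W) ≠ 0 := fun h => hw' (Subtype.ext h)
  have hself : h w' w' ≠ 0 := by
    intro h0
    apply hw'0
    apply hnd
    intro x
    have h1 : x - (h x w / h w w) • w ∈ hB.perp (F ∙ w) := by
      rw [mem_perp_span hB]
      apply hB.eq_zero_comm.1
      rw [hB.sub_left, hB.smul_left, div_mul_cancel₀ _ hw, sub_self]
    obtain ⟨k, hk⟩ := hspan ⟨_, h1⟩
    have hk' : k • (w' : W) = x - (h x w / h w w) • w := congrArg Subtype.val hk
    have h3 : x = k • (w' : W) + (h x w / h w w) • w := by rw [hk']; abel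
    rw [h3, hB.add_right, hB.smul_right, hB.smul_right, h0, hw'w]
    ring
  -- `w'` is an eigenvector
  obtain ⟨a', ha'⟩ : ∃ a' : F, g w' = a' • (w' : W) := by
    have h1 : g w' ∈ hB.perp (F ∙ w) := by
      rw [mem_perp_span hB]
      have h3 := hgh w w'
      rw [ha, hB.smul_left, hww', map_zero, mul_zero] at h3
      exact (mul_eq_zero.1 h3).resolve_left ha0
    obtain ⟨k, hk⟩ := hspan ⟨_, h1⟩
    exact ⟨k, (congrArg Subtype.val hk).symm⟩
  have hfw : σ (h w w) = h w w := by
    have := hB.herm w w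
    rw [one_mul] at this
    exact this.symm
  have hfw' : σ (h w' w') = h w' w' := by
    have := hB.herm (w' : W) w'
    rw [one_mul] at this
    exact this.symm
  obtain ⟨x, hx⟩ := Cfsg.Agent.H929.exists_norm hB.sigma_sq hne (-(h w w / h w' w')) (by
    rw [map_neg, map_div₀, hfw, hfw'])
  have hx0 : x ≠ 0 := by
    rintro rfl
    rw [zero_mul] at hx
    have := (neg_eq_zero.1 hx.symm)
    rw [div_eq_zero_iff] at this
    exact this.elim hw hself
  have key : ∀ y : F, y * σ y = -(h w w / h w' w') → φ y * a' = a * y := by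
    intro y hy
    obtain ⟨l, hl⟩ := hs (w + y • (w' : W)) (by
      rw [hB.add_left, hB.add_right, hB.add_right, hB.smul_left, hB.smul_left, hB.smul_right, hB.smul_right, hww', hw'w]
      show h w w + σ y * 0 + (y * 0 + y * (σ y * h w' w')) = 0
      have : y * (σ y * h w' w') = (y * σ y) * h w' w' := by ring
      rw [this, hy]
      field_simp
      ring)
    rw [hg.add, hg.smul, ha, ha', smul_add, smul_smul, smul_smul] at hl
    have e1 := congrArg (fun z => h z w) hl
    have e2 := congrArg (fun z => h z w') hl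
    simp only [hB.add_left, hB.smul_left, hw'w, hww'] at e1 e2
    have e3 : a = l := by
      have : (a - l) * h w w = 0 := by linear_combination e1
      exact sub_eq_zero.1 ((mul_eq_zero.1 this).resolve_right hw)
    have e4 : (φ y * a' - l * y) * h w' w' = 0 := by linear_combination e2
    rw [e3]
    exact sub_eq_zero.1 ((mul_eq_zero.1 e4).resolve_right hself)
  obtain ⟨z, hz⟩ := exists_zeta hF
  have hzσ : (z : F) * σ z = 1 := by
    rw [hσ, ← pow_succ', ← Units.val_pow_eq_pow_val, ← hz, pow_orderOf_eq_one, Units.val_one]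
  have hφz : φ z = z := by
    have e1 := key x hx
    have e2 := key (x * z) (by
      rw [map_mul, ← hx]
      linear_combination (x * σ x) * hzσ)
    rw [map_mul] at e2
    have e3 : a * x * (φ z - z) = 0 := by linear_combination e2 - (φ z) * e1
    exact sub_eq_zero.1 ((mul_eq_zero.1 e3).resolve_left (mul_ne_zero ha0 hx0))
  have hφ := refl_of_fix hF hz hφz
  let g' : W ≃ₗ[F] W := { g with
    map_add' := hg.add
    map_smul' := fun b v => by
      show g (b • v) = b • g v
      rw [hg.smul, hφ] }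
  exact isSc_of_sing_two hB hne hnd h2 (g := g') hs

set_option linter.unusedVariables false in
theorem su_two_semi (hF : Nat.card F = q ^ 2) (hadd : ∀ u v w, h (u + v) w = h u w + h v w)
    (hsmul : ∀ (a : F) u v, h (a • u) v = a * h u v) (hsymm : ∀ u v, h v u = h u v ^ q)
    (hnd : ∀ u, (∀ v, h u v = 0) → u = 0) (h2 : Module.finrank F W = 2) {s : ℕ} (hs : s.Prime) (h3 : 3 ≤ s)
    (hd : s ∣ q ^ 2 - 1)
    {φ : F ≃+* F} {g : Equiv.Perm W} (hg : Semi φ g) {c : F} (hc : c ≠ 0) (hgh : ∀ u v, h (g u) (g v) = c * φ (h u v))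
    (hcomm : ∀ y ∈ Iso h ⊓ (LinearEquiv.det (R := F) (M := W)).ker, ∃ c : F, ∀ v, g (y v) = c • y (g v))
    {w : W} (hw : h w w ≠ 0) (hgw : ∃ a : F, g w = a • w) : IsSc F (⇑g) :=
  su_two_semi' hF hadd hsmul hsymm hnd h2 hg hgh hcomm hw hgw

/-! ### coordinates -/

theorem exists_coordU (hF : Nat.card F = q ^ 2) (hadd : ∀ u v w, h (u + v) w = h u w + h v w)
    (hsmul : ∀ (a : F) u v, h (a • u) v = a * h u v) (hsymm : ∀ u v, h v u = h u v ^ q)
    (hnd : ∀ u, (∀ v, h u v = 0) → u = 0) {n : ℕ} (hn : finrank F W = n) :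
    ∃ e : (Fin n → F) ≃ₗ[F] W, ∀ x y, h (e x) (e y) = hermForm n F q x y := by
  obtain ⟨σ, hσ⟩ := exists_sigma hF
  have hH : H749.HermF (σ : F →+* F) h := ⟨hadd, hsmul, fun u v => by rw [hsymm]; exact (hσ _).symm, hnd⟩
  refine hH.exists_iso ?_ (sig_sq hF hσ) hσ hn
  intro h1
  apply sig_ne hF hσ
  apply RingEquiv.ext
  intro a
  exact congrArg (fun f : F →+* F => f a) h1

/-- `SU_n(q)` acting on `W` -/
noncomputable def suHom {n : ℕ} (q : ℕ) (e : (Fin n → F) ≃ₗ[F] W) : SU n F q →* (W ≃ₗ[F] W) :=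
  (slHom e).comp (SU n F q).subtype

theorem suHom_apply {n : ℕ} (e : (Fin n → F) ≃ₗ[F] W) (A : SU n F q) (v : Fin n → F) :
    suHom q e A (e v) = e (((A : Matrix.SpecialLinearGroup (Fin n) F) : Matrix (Fin n) (Fin n) F) *ᵥ v) :=
  slHom_apply e A v

theorem suHom_injective {n : ℕ} (e : (Fin n → F) ≃ₗ[F] W) : Function.Injective (suHom q e) := by
  intro A B hAB
  exact Subtype.ext (slHom_injective e hAB)

theorem suHom_range {n : ℕ} {e : (Fin n → F) ≃ₗ[F] W} (he : ∀ x y, h (e x) (e y) = hermForm n F q x y) :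
    (suHom q e).range = Iso h ⊓ (LinearEquiv.det (R := F) (M := W)).ker := by
  apply le_antisymm
  · rintro _ ⟨A, rfl⟩
    refine ⟨?_, ?_⟩
    · intro u v
      obtain ⟨u, rfl⟩ := e.surjective u
      obtain ⟨v, rfl⟩ := e.surjective v
      rw [suHom_apply, suHom_apply, he, he]
      exact (mem_SU_iff A.1).1 A.2 u v
    · have h1 : suHom q e A ∈ (slHom e).range := ⟨A, rfl⟩
      rwa [slHom_range] at h1
  · rintro y ⟨hy1, hy2⟩
    rw [← slHom_range e] at hy2
    obtain ⟨A, rfl⟩ := hy2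
    refine ⟨⟨A, ?_⟩, rfl⟩
    rw [mem_SU_iff]
    intro u v
    have h1 := hy1 (e u) (e v)
    rw [slHom_apply, slHom_apply, he, he] at h1
    exact h1

/-- `SU_n(q) ≃ SU(W)` -/
noncomputable def suEquiv {n : ℕ} {e : (Fin n → F) ≃ₗ[F] W} (he : ∀ x y, h (e x) (e y) = hermForm n F q x y) :
    SU n F q ≃* ↥(Iso h ⊓ (LinearEquiv.det (R := F) (M := W)).ker) :=
  (MonoidHom.ofInjective (suHom_injective e)).trans (MulEquiv.subgroupCongr (suHom_range he))

theorem quasi (hF : Nat.card F = q ^ 2) {n : ℕ} (hw : 2 ≤ n) (h2 : n = 2 → 4 ≤ q)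
    (h3 : ¬ (n = 3 ∧ q = 2)) : IsQuasisimple (SU n F q) := by
  let _ := Fintype.ofFinite F
  rw [Nat.card_eq_fintype_card] at hF
  rcases Nat.lt_or_ge 2 n with h | h
  · exact ⟨⟨Cfsg.Agent.LieClassical.HermPerfect.commutator_SU_eq_top hF h h3⟩, Cfsg.Agent.S0283.result hF n h h3⟩
  · obtain rfl : n = 2 := le_antisymm h hw
    obtain ⟨K, _, _, hK⟩ : ∃ (K : Type) (_ : Field K) (_ : Fintype K), Fintype.card K = q := by
      obtain ⟨p, hp⟩ := CharP.exists F
      have := Fact.mk (CharP.char_is_prime F p)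
      obtain ⟨k, hk0, hk⟩ := Cfsg.Agent.H155.Unit.exists_pow hF p
      have : Finite (GaloisField p k) := inferInstance
      have h1 : Nat.card (GaloisField p k) = q := by rw [GaloisField.card p k hk0.ne', hk]
      let _ : Fintype (GaloisField p k) := Fintype.ofFinite _
      exact ⟨GaloisField p k, inferInstance, inferInstance, by rw [← Nat.card_eq_fintype_card, h1]⟩
    obtain ⟨e⟩ := Cfsg.Agent.S0281.result hF hK
    refine Cfsg.Agent.SignalizersComponents.Components.isQuasisimple_of_mulEquiv e.symm ?_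
    exact Cfsg.Agent.SignalizersComponents.SLQuasisimple.isQuasisimple_two
      (by rw [Nat.card_eq_fintype_card, hK]; exact h2 rfl)

/-! ### elements of order `s` -/

/-- scalar isometries -/
theorem norm_of_sc (hF : Nat.card F = q ^ 2) (hadd : ∀ u v w, h (u + v) w = h u w + h v w)
    (hsmul : ∀ (a : F) u v, h (a • u) v = a * h u v) (hsymm : ∀ u v, h v u = h u v ^ q)
    (hnd : ∀ u, (∀ v, h u v = 0) → u = 0) [Nontrivial W] {y : W ≃ₗ[F] W} (hy : y ∈ Iso h) {c : F}
    (hc : ∀ v, y v = c • v) : c ^ (q + 1) = 1 := by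
  obtain ⟨σ, hσ⟩ := exists_sigma hF
  have hB := frm_of hF hσ hadd hsmul hsymm
  obtain ⟨u, hu⟩ := exists_ne (0 : W)
  obtain ⟨v, hv⟩ : ∃ v, h u v ≠ 0 := by
    by_contra hcon
    push Not at hcon
    exact hu (hnd u hcon)
  have h1 := hy u v
  rw [hc, hc, hB.smul_left, hB.smul_right] at h1
  have h2 : c * (σ c * h u v) = h u v := h1
  rw [hσ] at h2
  have h3 : (c ^ (q + 1) - 1) * h u v = 0 := by rw [pow_succ]; linear_combination h2
  exact sub_eq_zero.1 ((mul_eq_zero.1 h3).resolve_right hv)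

theorem sc_pow {y : W ≃ₗ[F] W} {c : F} (hc : ∀ v, y v = c • v) (n : ℕ) (v : W) : (y ^ n) v = c ^ n • v := by
  induction n generalizing v with
  | zero => rw [pow_zero, pow_zero, one_smul]; rfl
  | succ n ih =>
    rw [pow_succ, pow_succ]
    change (y ^ n) (y v) = _
    rw [hc, map_smul, ih, smul_smul, mul_comm]

theorem sc_pow_one [Nontrivial W] {y : W ≃ₗ[F] W} {c : F} (hc : ∀ v, y v = c • v) {n : ℕ} (hn : y ^ n = 1) :
    c ^ n = 1 := by
  obtain ⟨u, hu⟩ := exists_ne (0 : W)
  have h1 := sc_pow hc n u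
  rw [hn] at h1
  have h2 : (c ^ n - 1) • u = 0 := by rw [sub_smul, one_smul, ← h1]; exact sub_self _
  exact sub_eq_zero.1 ((smul_eq_zero.1 h2).resolve_right hu)

/-- the diagonal element -/
theorem exists_diag {n : ℕ} {e : (Fin n → F) ≃ₗ[F] W} (he : ∀ x y, h (e x) (e y) = hermForm n F q x y)
    {d : Fin n → F} (hd : ∀ i, d i ^ (q + 1) = 1) (hd1 : ∏ i, d i = 1) :
    ∃ y ∈ Iso h ⊓ (LinearEquiv.det (R := F) (M := W)).ker, ∀ i, y (e (Pi.single i 1)) = d i • e (Pi.single i 1) := by
  have h1 : ∀ u v, hermForm n F q (Matrix.diagonal d *ᵥ u) (Matrix.diagonal d *ᵥ v) = hermForm n F q u v := by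
    intro u v
    unfold hermForm
    refine Finset.sum_congr rfl fun i _ => ?_
    rw [Matrix.mulVec_diagonal, Matrix.mulVec_diagonal, mul_pow]
    have := hd i
    rw [pow_succ] at this
    linear_combination (u i * v i ^ q) * this
  let A : SU n F q := mkSU (Matrix.diagonal d) (by rw [Matrix.det_diagonal, hd1]) h1
  refine ⟨suHom q e A, by rw [← suHom_range he]; exact ⟨A, rfl⟩, fun i => ?_⟩
  rw [suHom_apply, ← map_smul]
  congr 1
  change Matrix.diagonal d *ᵥ _ = _
  ext j
  rw [Matrix.mulVec_diagonal, Pi.smul_apply, smul_eq_mul]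
  by_cases hij : j = i
  · rw [hij]
  · rw [Pi.single_eq_of_ne hij, mul_zero, mul_zero]

theorem diag_pow {n : ℕ} {e : (Fin n → F) ≃ₗ[F] W} {d : Fin n → F} {y : W ≃ₗ[F] W}
    (hy : ∀ i, y (e (Pi.single i 1)) = d i • e (Pi.single i 1)) (m : ℕ) (i : Fin n) :
    (y ^ m) (e (Pi.single i 1)) = d i ^ m • e (Pi.single i 1) := by
  induction m with
  | zero => rw [pow_zero, pow_zero, one_smul]; rfl
  | succ m ih =>
    rw [pow_succ, pow_succ]
    change (y ^ m) (y _) = _
    rw [hy, map_smul, ih, smul_smul, mul_comm]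

theorem eq_one_of_coord {n : ℕ} {e : (Fin n → F) ≃ₗ[F] W} {y : W ≃ₗ[F] W}
    (hy : ∀ i, y (e (Pi.single i 1)) = e (Pi.single i 1)) : y = 1 := by
  let b : Basis (Fin n) F W := Basis.ofEquivFun e.symm
  have hb : ∀ i, b i = e (Pi.single i 1) := by
    intro i
    rw [Basis.coe_ofEquivFun]
    rfl
  apply b.ext'
  intro i
  rw [hb, hy]
  rfl

theorem exists_su (hF : Nat.card F = q ^ 2) (hadd : ∀ u v w, h (u + v) w = h u w + h v w)
    (hsmul : ∀ (a : F) u v, h (a • u) v = a * h u v) (hsymm : ∀ u v, h v u = h u v ^ q)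
    (hnd : ∀ u, (∀ v, h u v = 0) → u = 0) {s : ℕ} (hs : s.Prime) (h3 : 3 ≤ s) (h2 : 2 ≤ Module.finrank F W) {i : ℕ}
    (hi : 1 ≤ i) (hiw : i ≤ Module.finrank F W) (hd : (s : ℤ) ∣ (-(q : ℤ)) ^ i - 1) :
    ∃ y ∈ Iso h ⊓ (LinearEquiv.det (R := F) (M := W)).ker, y ^ s = 1 ∧ ¬ IsSc F (⇑y) := by
  have hsF : Fact s.Prime := ⟨hs⟩
  let _ := Fintype.ofFinite F
  have hW : Nontrivial W := Module.nontrivial_of_finrank_pos (R := F) (by omega)
  obtain ⟨e, he⟩ := exists_coordU hF hadd hsmul hsymm hnd (n := finrank F W) rfl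
  have hfin : Finite W := Module.finite_of_finite F
  have hfin' : Finite (W ≃ₗ[F] W) := Finite.of_injective (fun h : W ≃ₗ[F] W => (h : W → W)) DFunLike.coe_injective
  by_cases h1 : s ∣ q + 1
  · -- a diagonal element
    obtain ⟨z, hz⟩ := exists_zeta hF
    obtain ⟨k, hk⟩ := h1
    have hk0 : k ≠ 0 := by rintro rfl; omega
    obtain ⟨ζ, hζ⟩ : ∃ ζ : Fˣ, orderOf ζ = s := ⟨z ^ k, by
      rw [orderOf_pow_of_dvd hk0 (by rw [hz, hk]; exact dvd_mul_left _ _), hz, hk]
      exact Nat.mul_div_cancel _ (Nat.pos_of_ne_zero hk0)⟩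
    have hζq : (ζ : F) ^ (q + 1) = 1 := by
      rw [← Units.val_pow_eq_pow_val, hk, pow_mul, ← hζ, pow_orderOf_eq_one, one_pow, Units.val_one]
    set i0 : Fin (finrank F W) := ⟨0, by omega⟩
    set i1 : Fin (finrank F W) := ⟨1, by omega⟩
    have hij : i0 ≠ i1 := by intro h; simp [i0, i1] at h
    let d : Fin (finrank F W) → F := fun i => if i = i0 then (ζ : F) else if i = i1 then (ζ : F)⁻¹ else 1
    have hd0 : d i0 = ζ := if_pos rfl
    have hd1 : d i1 = (ζ : F)⁻¹ := by
      show (if i1 = i0 then (ζ : F) else if i1 = i1 then (ζ : F)⁻¹ else 1) = _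
      rw [if_neg hij.symm, if_pos rfl]
    have hd2 : ∀ i, i ≠ i0 → i ≠ i1 → d i = 1 := fun i h0 h1 => by
      show (if i = i0 then (ζ : F) else if i = i1 then (ζ : F)⁻¹ else 1) = _
      rw [if_neg h0, if_neg h1]
    obtain ⟨y, hy, hyd⟩ := exists_diag he (d := d) (by
      intro i
      by_cases h0 : i = i0
      · rw [h0, hd0, hζq]
      · by_cases h1 : i = i1
        · rw [h1, hd1, inv_pow, hζq, inv_one]
        · rw [hd2 i h0 h1, one_pow]) (by
      rw [Finset.prod_eq_mul i0 i1 hij (fun c _ hc => hd2 c hc.1 hc.2) (fun h => absurd (Finset.mem_univ _) h)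
        (fun h => absurd (Finset.mem_univ _) h), hd0, hd1, mul_inv_cancel₀ ζ.ne_zero])
    refine ⟨y, hy, ?_, ?_⟩
    · apply eq_one_of_coord (e := e)
      intro i
      rw [diag_pow hyd]
      have hζs : (ζ : F) ^ s = 1 := by
        rw [← Units.val_pow_eq_pow_val, ← hζ, pow_orderOf_eq_one, Units.val_one]
      have : d i ^ s = 1 := by
        by_cases h0 : i = i0
        · rw [h0, hd0, hζs]
        · by_cases h1 : i = i1
          · rw [h1, hd1, inv_pow, hζs, inv_one]
          · rw [hd2 i h0 h1, one_pow]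
      rw [this, one_smul]
    · rintro ⟨c, hc⟩
      have e0 := hyd i0
      have e1 := hyd i1
      rw [hc, hd0] at e0
      rw [hc, hd1] at e1
      have hne : ∀ i, e (Pi.single i 1) ≠ 0 := by
        intro i h0
        have := (LinearEquiv.map_eq_zero_iff e).1 h0
        have := congrFun this i
        simp at this
      have e0' : c = ζ := smul_left_injective F (hne i0) e0
      have e1' : c = (ζ : F)⁻¹ := smul_left_injective F (hne i1) e1
      have h6 : (ζ : F) * ζ = 1 := by
        have h7 : (ζ : F) = (ζ : F)⁻¹ := e0'.symm.trans e1'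
        nth_rw 2 [h7]
        exact mul_inv_cancel₀ ζ.ne_zero
      have h7 : ζ ^ 2 = 1 := by
        apply Units.ext
        rw [Units.val_pow_eq_pow_val, pow_two, h6, Units.val_one]
      have h8 := orderOf_dvd_of_pow_eq_one h7
      rw [hζ] at h8
      have := Nat.le_of_dvd (by norm_num) h8
      omega
  · have h4 : s ∣ Nat.card ↥(Iso h ⊓ (LinearEquiv.det (R := F) (M := W)).ker) := by
      rw [← Nat.card_congr (suEquiv he).toEquiv]
      have h5 := Cfsg.Agent.S0278.result (F := F) (q := q) (by rw [← Nat.card_eq_fintype_card]; exact hF) (finrank F W) (by omega)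
      have h6 : s ∣ (q + 1) * Nat.card (SU (finrank F W) F q) := by
        rw [h5]
        refine Dvd.dvd.mul_left (dvd_trans ?_ (Finset.dvd_prod_of_mem _ (Finset.mem_range.2 (show i - 1 < finrank F W by omega)))) _
        have hq := two_le_q hF
        rw [Nat.sub_add_cancel hi]
        by_cases hev : Even (i - 1)
        · rw [if_pos hev]
          have hodd : Odd i := by
            obtain ⟨m, hm⟩ := hev
            exact ⟨m, by omega⟩
          rw [hodd.neg_pow] at hd
          have : (s : ℤ) ∣ ((q ^ i + 1 : ℕ) : ℤ) := by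
            push_cast
            have h7 : ((q : ℤ) ^ i + 1) = -(-(q : ℤ) ^ i - 1) := by ring
            rw [h7]
            exact (dvd_neg).2 hd
          exact_mod_cast this
        · rw [if_neg hev]
          have heven : Even i := by
            rw [Nat.not_even_iff_odd] at hev
            obtain ⟨m, hm⟩ := hev
            exact ⟨m + 1, by omega⟩
          rw [heven.neg_pow] at hd
          have : (s : ℤ) ∣ ((q ^ i - 1 : ℕ) : ℤ) := by
            rw [Nat.cast_sub (Nat.one_le_pow _ _ (by omega))]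
            push_cast
            exact hd
          exact_mod_cast this
      exact (hs.dvd_mul.1 h6).resolve_left h1
    obtain ⟨y, hy⟩ := exists_prime_orderOf_dvd_card' s h4
    have hys : (y : W ≃ₗ[F] W) ^ s = 1 := by
      have := pow_orderOf_eq_one y
      rw [hy] at this
      exact congrArg Subtype.val this
    refine ⟨y, y.2, hys, ?_⟩
    rintro ⟨c, hc⟩
    have e1 := sc_pow_one hc hys
    have e2 := norm_of_sc hF hadd hsmul hsymm hnd y.2.1 hc
    have hc1 : c = 1 := by
      have h6 : orderOf c ∣ s := orderOf_dvd_of_pow_eq_one e1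
      have h7 : orderOf c ∣ q + 1 := orderOf_dvd_of_pow_eq_one e2
      rcases (Nat.dvd_prime hs).1 h6 with h8 | h8
      · exact orderOf_eq_one_iff.1 h8
      · exact absurd (h8 ▸ h7) h1
    have h6 : (y : W ≃ₗ[F] W) = 1 := by
      apply LinearEquiv.ext
      intro v
      rw [hc, hc1, one_smul]
      rfl
    have h7 : y = 1 := Subtype.ext h6
    rw [h7, orderOf_one] at hy
    exact hs.one_lt.ne hy

/-! ### `SU_3(2)` -/

theorem isSc_of_coprime {y : W ≃ₗ[F] W} {m k : ℕ} (hy : y ^ m = 1) (hm : 1 < m) (hk : Nat.Coprime k m)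
    (h : IsSc F (⇑(y ^ k))) : IsSc F (⇑y) := by
  obtain ⟨a, -, ha⟩ := Nat.exists_mul_mod_eq_one_of_coprime hk hm
  have h1 : y = (y ^ k) ^ a := by
    rw [← pow_mul, ← Nat.div_add_mod (k * a) m, ha, pow_add, pow_mul, hy, one_pow, one_mul, pow_one]
  rw [h1]
  exact h.pow a

theorem mem_center_of_isSc {n : ℕ} {e : (Fin n → F) ≃ₗ[F] W} {A : SU n F q} (h1 : IsSc F (⇑(suHom q e A))) :
    A ∈ center (SU n F q) := by
  obtain ⟨c, hc⟩ := h1
  rw [mem_center_iff]
  intro B
  apply suHom_injective e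
  rw [map_mul, map_mul]
  apply LinearEquiv.ext
  intro v
  change (suHom q e B) ((suHom q e A) v) = (suHom q e A) ((suHom q e B) v)
  rw [hc, hc, map_smul]

theorem exists_diagA {n : ℕ} (e : (Fin n → F) ≃ₗ[F] W)
    {d : Fin n → F} (hd : ∀ i, d i ^ (q + 1) = 1) (hd1 : ∏ i, d i = 1) :
    ∃ A : SU n F q, ∀ x, suHom q e A (e x) = e (fun j => d j * x j) := by
  have h1 : ∀ u v, hermForm n F q (Matrix.diagonal d *ᵥ u) (Matrix.diagonal d *ᵥ v) = hermForm n F q u v := by
    intro u v
    unfold hermForm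
    refine Finset.sum_congr rfl fun i _ => ?_
    rw [Matrix.mulVec_diagonal, Matrix.mulVec_diagonal, mul_pow]
    have := hd i
    rw [pow_succ] at this
    linear_combination (u i * v i ^ q) * this
  refine ⟨mkSU (Matrix.diagonal d) (by rw [Matrix.det_diagonal, hd1]) h1, fun x => ?_⟩
  rw [suHom_apply]
  congr 1
  change Matrix.diagonal d *ᵥ _ = _
  ext j
  rw [Matrix.mulVec_diagonal]

theorem sgood_three (hF : Nat.card F = 2 ^ 2) (hadd : ∀ u v w, h (u + v) w = h u w + h v w)
    (hsmul : ∀ (a : F) u v, h (a • u) v = a * h u v) (hsymm : ∀ u v, h v u = h u v ^ 2)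
    (hnd : ∀ u, (∀ v, h u v = 0) → u = 0) (hw : finrank F W = 3) :
    SGood 3 (Iso h ⊓ (LinearEquiv.det (R := F) (M := W)).ker) := by
  let _ := Fintype.ofFinite F
  have hW : Nontrivial W := Module.nontrivial_of_finrank_pos (R := F) (by omega)
  have hlin := lin_su hF hadd hsmul hsymm hnd (by omega)
  obtain ⟨e, he⟩ := exists_coordU hF hadd hsmul hsymm hnd hw
  refine ⟨?_, hlin⟩
  intro N hN hn hp
  obtain ⟨N9, hN9, hcard, hexp, ⟨iso⟩⟩ := Cfsg.Agent.S0827.result (F := F) (by
    rw [← Nat.card_eq_fintype_card]; exact hF)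
  have hQ : Nat.card (PSU 3 F 2 ⧸ N9) = 8 := by
    rw [Nat.card_congr iso.toEquiv, Nat.card_eq_fintype_card, QuaternionGroup.card]
  let N' : Subgroup (SU 3 F 2) := N.comap (suHom 2 e)
  have hN' : N'.Normal := ⟨fun n hnn g => by
    change suHom 2 e (g * n * g⁻¹) ∈ N
    rw [map_mul, map_mul, map_inv]
    exact hn _ (by rw [← suHom_range he]; exact ⟨g, rfl⟩) _ hnn⟩
  let M : Subgroup (PSU 3 F 2) := N'.map (QuotientGroup.mk' (center (SU 3 F 2)))
  have hM : M.Normal := hN'.map _ (QuotientGroup.mk'_surjective _)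
  have hdisj : M ⊓ N9 = ⊥ := by
    rw [eq_bot_iff]
    rintro x ⟨⟨n, hnN, rfl⟩, hx⟩
    obtain ⟨k, hk, hsc⟩ := hp _ hnN
    rw [← map_pow] at hsc
    have h1 : n ^ k ∈ center (SU 3 F 2) := mem_center_of_isSc hsc
    have h2 : (QuotientGroup.mk' (center (SU 3 F 2)) n) ^ k = 1 := by
      rw [← map_pow]
      exact (QuotientGroup.eq_one_iff _).2 h1
    have h4 := hexp _ hx
    rw [mem_bot]
    have h5 : orderOf (QuotientGroup.mk' (center (SU 3 F 2)) n) ∣ Nat.gcd k 3 :=
      Nat.dvd_gcd (orderOf_dvd_of_pow_eq_one h2) (orderOf_dvd_of_pow_eq_one h4)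
    rw [((Nat.Prime.coprime_iff_not_dvd Nat.prime_three).2 hk).symm] at h5
    exact orderOf_eq_one_iff.1 (Nat.dvd_one.1 h5)
  have hcomm : ∀ x ∈ M, ∀ y ∈ N9, x * y = y * x := by
    intro x hx y hy
    have h1 : x * y * x⁻¹ * y⁻¹ ∈ M ⊓ N9 :=
      ⟨by
        have : x * y * x⁻¹ * y⁻¹ = x * (y * x⁻¹ * y⁻¹) := by group
        rw [this]
        exact M.mul_mem hx (hM.conj_mem _ (M.inv_mem hx) y), N9.mul_mem (hN9.conj_mem _ hy x) (N9.inv_mem hy)⟩
    rw [hdisj, mem_bot] at h1
    exact mul_inv_eq_iff_eq_mul.1 (mul_inv_eq_one.1 h1)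
  -- the diagonal element
  obtain ⟨z, hz⟩ := exists_zeta hF
  have hz3 : (z : F) ^ 3 = 1 := by
    rw [← Units.val_pow_eq_pow_val, show (3 : ℕ) = orderOf z from hz.symm, pow_orderOf_eq_one, Units.val_one]
  have hz0 : (z : F) ≠ 0 := z.ne_zero
  have hz1 : (z : F) ≠ 1 := by
    intro h1
    have : z = 1 := Units.ext h1
    rw [this, orderOf_one] at hz
    omega
  let d : Fin 3 → F := ![1, z, z ^ 2]
  have hd3 : ∀ i, d i ^ 3 = 1 := by
    intro i
    fin_cases i
    · exact one_pow 3
    · exact hz3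
    · change ((z : F) ^ 2) ^ 3 = 1
      rw [← pow_mul, mul_comm, pow_mul, hz3, one_pow]
  have hdinj : ∀ i j, i ≠ j → d i ≠ d j := by
    have h01 : (1 : F) ≠ z := fun h => hz1 h.symm
    have h02 : (1 : F) ≠ z ^ 2 := by
      intro h1
      apply hz1
      have : (z : F) ^ 3 = z ^ 2 * z := by ring
      rw [hz3, ← h1, one_mul] at this
      exact this.symm
    have h12 : (z : F) ≠ z ^ 2 := by
      intro h1
      apply hz1
      have : (z : F) * (z - 1) = 0 := by linear_combination -h1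
      exact sub_eq_zero.1 ((mul_eq_zero.1 this).resolve_left hz0)
    intro i j hij
    fin_cases i <;> fin_cases j <;> first | exact absurd rfl hij | skip
    · exact h01
    · exact h02
    · exact h01.symm
    · exact h12
    · exact h02.symm
    · exact h12.symm
  obtain ⟨A, hA⟩ := exists_diagA (q := 2) e (d := d) hd3 (by
    rw [Fin.prod_univ_three]
    change (1 : F) * z * z ^ 2 = 1
    rw [one_mul, ← pow_succ', hz3])
  have hA3 : A ^ 3 = 1 := by
    apply suHom_injective e
    rw [map_pow, map_one]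
    apply LinearEquiv.ext
    intro v
    obtain ⟨x, rfl⟩ := e.surjective v
    rw [pow_succ, pow_two]
    change (suHom 2 e A) ((suHom 2 e A) ((suHom 2 e A) (e x))) = e x
    rw [hA, hA, hA]
    congr 1
    ext j
    have := hd3 j
    linear_combination (x j) * this
  have hAN : QuotientGroup.mk' (center (SU 3 F 2)) A ∈ N9 := by
    have h1 : (QuotientGroup.mk' (center (SU 3 F 2)) A) ^ 8 ∈ N9 := by
      rw [← QuotientGroup.eq_one_iff, QuotientGroup.mk_pow, ← hQ]
      exact pow_card_eq_one'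
    have h2 : (QuotientGroup.mk' (center (SU 3 F 2)) A) ^ 3 = 1 := by rw [← map_pow, hA3, map_one]
    have h3 : QuotientGroup.mk' (center (SU 3 F 2)) A = ((QuotientGroup.mk' (center (SU 3 F 2)) A) ^ 8) ^ 2 := by
      rw [← pow_mul]
      change _ = (QuotientGroup.mk' (center (SU 3 F 2)) A) ^ (3 * 5 + 1)
      rw [pow_add, pow_mul, h2, one_pow, one_mul, pow_one]
    rw [h3]
    exact N9.pow_mem h1 2
  intro T hT
  obtain ⟨n, rfl⟩ : T ∈ (suHom 2 e).range := by rw [suHom_range he]; exact hN hT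
  -- `n` and `A` commute modulo the scalars
  obtain ⟨c, hc⟩ : ∃ c : F, ∀ v, (suHom 2 e (n * A * (A * n)⁻¹)) v = c • v := by
    apply isSc_of_central hlin
    intro y hy
    rw [← suHom_range he] at hy
    obtain ⟨B, rfl⟩ := hy
    rw [← map_mul, ← map_mul]
    congr 1
    have h1 : n * A * (A * n)⁻¹ ∈ center (SU 3 F 2) := by
      have h2 := hcomm (QuotientGroup.mk' _ n) ⟨n, hT, rfl⟩ _ hAN
      rw [← map_mul, ← map_mul] at h2
      refine (QuotientGroup.eq_one_iff _).1 ?_
      change QuotientGroup.mk' (center (SU 3 F 2)) (n * A * (A * n)⁻¹) = 1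
      rw [map_mul, map_inv, h2, mul_inv_cancel]
    exact (mem_center_iff.1 h1 B).symm
  have hc3 : c ^ 3 = 1 := norm_of_sc hF hadd hsmul hsymm hnd (by
    have : suHom 2 e (n * A * (A * n)⁻¹) ∈ (suHom 2 e).range := ⟨_, rfl⟩
    rw [suHom_range he] at this
    exact this.1) hc
  have hTA : ∀ v, (suHom 2 e n) ((suHom 2 e A) v) = c • (suHom 2 e A) ((suHom 2 e n) v) := by
    intro v
    rw [← hc]
    change ((suHom 2 e n) * (suHom 2 e A)) v = ((suHom 2 e (n * A * (A * n)⁻¹)) * ((suHom 2 e A) * (suHom 2 e n))) v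
    rw [← map_mul, ← map_mul, ← map_mul, inv_mul_cancel_right]
  set T := suHom 2 e n with hTdef
  set D := suHom 2 e A with hDdef
  have hT3 : ∀ v, (T ^ 3) (D v) = D ((T ^ 3) v) := by
    intro v
    have e1 : ∀ v, (T ^ 3) v = T (T (T v)) := fun v => by rw [pow_succ, pow_two]; rfl
    rw [e1, e1, hTA, map_smul, hTA, map_smul, map_smul, hTA, smul_smul, smul_smul]
    have : c * c * c = 1 := by rw [← hc3]; ring
    rw [this, one_smul]
  have heig : ∀ i, ∃ μ : F, (T ^ 3) (e (Pi.single i 1)) = μ • e (Pi.single i 1) := by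
    intro i
    obtain ⟨x, hx⟩ := e.surjective ((T ^ 3) (e (Pi.single i 1)))
    have h1 : D (e (Pi.single i 1)) = d i • e (Pi.single i 1) := by
      rw [hA, ← map_smul]
      congr 1
      ext j
      rw [Pi.smul_apply, smul_eq_mul]
      by_cases hij : j = i
      · rw [hij]
      · rw [Pi.single_eq_of_ne hij, mul_zero, mul_zero]
    have h2 := hT3 (e (Pi.single i 1))
    rw [h1, map_smul, ← hx, hA, ← map_smul] at h2
    have h4 := e.injective h2
    refine ⟨x i, ?_⟩
    rw [← hx, ← map_smul]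
    congr 1
    ext j
    rw [Pi.smul_apply, smul_eq_mul]
    by_cases hij : j = i
    · rw [hij, Pi.single_eq_same, mul_one]
    · rw [Pi.single_eq_of_ne hij, mul_zero]
      have h5 := congrFun h4 j
      rw [Pi.smul_apply, smul_eq_mul] at h5
      have h6 : (d i - d j) * x j = 0 := by linear_combination h5
      exact (mul_eq_zero.1 h6).resolve_left (sub_ne_zero.2 (hdinj i j (Ne.symm hij)))
  have hT9 : T ^ 9 = 1 := by
    apply eq_one_of_coord (e := e)
    intro i
    obtain ⟨μ, hμ⟩ := heig i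
    have hne : e (Pi.single i 1) ≠ 0 := by
      intro h0
      have := (LinearEquiv.map_eq_zero_iff e).1 h0
      have := congrFun this i
      simp at this
    have hμ0 : μ ≠ 0 := by
      rintro rfl
      rw [zero_smul] at hμ
      exact hne ((LinearEquiv.map_eq_zero_iff (T ^ 3)).1 hμ)
    have hμ3 : μ ^ 3 = 1 := by
      have h1 := FiniteField.pow_card_sub_one_eq_one μ hμ0
      rw [← Nat.card_eq_fintype_card, hF] at h1
      exact h1
    have e0 : T ^ 9 = T ^ 3 * (T ^ 3 * T ^ 3) := by rw [← pow_add, ← pow_add]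
    rw [e0]
    have e1 : ∀ v, (T ^ 3 * (T ^ 3 * T ^ 3)) v = (T ^ 3) ((T ^ 3) ((T ^ 3) v)) := fun v => rfl
    rw [e1, hμ, map_smul, hμ, map_smul, map_smul, hμ, smul_smul, smul_smul]
    have : μ * μ * μ = 1 := by rw [← hμ3]; ring
    rw [this, one_smul]
  obtain ⟨k, hk, hsc⟩ := hp _ hT
  exact isSc_of_coprime hT9 (by norm_num)
    ((Nat.Coprime.pow_right 2 ((Nat.Prime.coprime_iff_not_dvd Nat.prime_three).2 hk).symm : Nat.Coprime k (3 ^ 2))) hsc

theorem eq_three {s : ℕ} (hs : s.Prime) {a : ℤ} (hd : (s : ℤ) ∣ a) (ha : a = -3 ∨ a = 3 ∨ a = -9) : s = 3 := by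
  have h1 : s ∣ 9 := by
    have : (s : ℤ) ∣ 9 := by
      rcases ha with rfl | rfl | rfl
      · exact dvd_trans hd ⟨-3, by norm_num⟩
      · exact dvd_trans hd ⟨3, by norm_num⟩
      · exact dvd_trans hd ⟨-1, by norm_num⟩
    exact_mod_cast this
  have h2 : s ∣ 3 ^ 2 := h1
  exact (Nat.prime_dvd_prime_iff_eq hs Nat.prime_three).1 (hs.dvd_of_dvd_pow h2)

/-- **`SU(W)` is good**, dimension at least 2 -/
theorem sgood_su (hF : Nat.card F = q ^ 2) (hadd : ∀ u v w, h (u + v) w = h u w + h v w)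
    (hsmul : ∀ (a : F) u v, h (a • u) v = a * h u v) (hsymm : ∀ u v, h v u = h u v ^ q)
    (hnd : ∀ u, (∀ v, h u v = 0) → u = 0) {s : ℕ} (hs : s.Prime) (h3 : 3 ≤ s) (h2 : 2 ≤ Module.finrank F W) {i : ℕ}
    (hi : 1 ≤ i) (hiw : i ≤ Module.finrank F W) (hd : (s : ℤ) ∣ (-(q : ℤ)) ^ i - 1) :
    SGood s (Iso h ⊓ (LinearEquiv.det (R := F) (M := W)).ker) := by
  have hW : Nontrivial W := Module.nontrivial_of_finrank_pos (R := F) (by omega)
  have hq := two_le_q hF
  have hlin := lin_su hF hadd hsmul hsymm hnd h2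
  by_cases hgen : (finrank F W = 2 → 4 ≤ q) ∧ ¬ (finrank F W = 3 ∧ q = 2)
  · obtain ⟨e, he⟩ := exists_coordU hF hadd hsmul hsymm hnd (n := finrank F W) rfl
    exact sgood_of_quasi hs ((CpQuot.Congr.isQuasisimple_iff (suEquiv he)).1 (quasi hF h2 hgen.1 hgen.2)) hlin
      (exists_su hF hadd hsmul hsymm hnd hs h3 h2 hi hiw hd)
  · by_cases hw : finrank F W = 3 ∧ q = 2
    · obtain ⟨hw, rfl⟩ := hw
      have hs3 : s = 3 := by
        refine eq_three hs hd ?_
        have : i = 1 ∨ i = 2 ∨ i = 3 := by omega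
        rcases this with rfl | rfl | rfl <;> norm_num
      subst hs3
      exact sgood_three hF hadd hsmul hsymm hnd hw
    · have hw2 : finrank F W = 2 ∧ q < 4 := by
        constructor
        · by_contra hne
          exact hgen ⟨fun h => absurd h hne, hw⟩
        · by_contra hne
          exact hgen ⟨fun _ => by omega, hw⟩
      have hi2 : i = 1 ∨ i = 2 := by omega
      have hq' : q = 2 ∨ q = 3 := by omega
      rcases hq' with rfl | rfl
      · have hs3 : s = 3 := by
          refine eq_three hs hd ?_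
          rcases hi2 with rfl | rfl <;> norm_num
        subst hs3
        refine sgood_of_card_six ?_ hlin ?_
        · let _ := Fintype.ofFinite F
          obtain ⟨e, he⟩ := exists_coordU hF hadd hsmul hsymm hnd (n := 2) hw2.1
          rw [← Nat.card_congr (suEquiv he).toEquiv]
          have h5 := Cfsg.Agent.S0278.result (F := F) (q := 2) (by rw [← Nat.card_eq_fintype_card]; exact hF) 2 (by norm_num)
          rw [Finset.prod_range_succ, Finset.prod_range_one, if_pos (by decide), if_neg (by decide)] at h5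
          norm_num at h5
          omega
        · rintro y hy hy3 ⟨c, hc⟩
          have e1 := sc_pow_one hc hy3
          have e2 : LinearMap.det (y : W →ₗ[F] W) = 1 := by
            have := congrArg Units.val (MonoidHom.mem_ker.1 hy.2)
            rwa [LinearEquiv.coe_det, Units.val_one] at this
          have e3 : (y : W →ₗ[F] W) = c • LinearMap.id := LinearMap.ext fun v => hc v
          rw [e3, LinearMap.det_smul, hw2.1, LinearMap.det_id, mul_one] at e2
          have hc1 : c = 1 := by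
            have : c ^ 3 = c ^ 2 * c := by ring
            rw [e1, e2, one_mul] at this
            exact this.symm
          apply LinearEquiv.ext
          intro v
          rw [hc, hc1, one_smul]
          rfl
      · exfalso
        have h1 : s ∣ 8 := by
          have : (s : ℤ) ∣ 8 := by
            rcases hi2 with rfl | rfl
            · exact dvd_trans hd ⟨-2, by norm_num⟩
            · exact dvd_trans hd ⟨1, by norm_num⟩
          exact_mod_cast this
        have h2 : s ∣ 2 ^ 3 := h1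
        have := (Nat.prime_dvd_prime_iff_eq hs Nat.prime_two).1 (hs.dvd_of_dvd_pow h2)
        omega

end Cfsg.Agent.H383.Pi
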