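import Cfsg.Agent.H809.Pi.GoodSL
import Cfsg.Agent.H63.GU.Basic

/-!
# S4324: semilinear maps commuting with the special unitary group modulo scalars (helper383)

* `sing_eig` : the singular vectors are eigenvectors;
* `isSc_of_sing` : dimension at least three; `isSc_of_sing_two` : linear maps in dimension two;
* `refl_of_eig` : dimension two, semilinear similitudes with a nonsingular eigenvector.
-/

set_option autoImplicit false
set_option linter.unusedSectionVars false

namespace Cfsg.Agent.H383.Pi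

open Module Subgroup Cfsg.Agent.H809.Sec Cfsg.Agent.H951 Cfsg.Agent.H63.GU
open Cfsg.Agent.BpCl (Semi Iso)

universe u v

variable {F : Type u} {W : Type v} [Field F] [AddCommGroup W] [Module F W] {σ : F ≃+* F} {B : W → W → F}

/-- the transvections -/
theorem exists_tv (hB : Frm (σ : F →+* F) 1 B) {u : W} (hu : B u u = 0) {a : F} (ha : σ a = -a) :
    ∃ y ∈ Iso B ⊓ (LinearEquiv.det (R := F) (M := W)).ker, ∀ v, y v = v + (a * B v u) • u := by
  let f : Module.Dual F W :=
    { toFun := fun v => a * B v u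
      map_add' := fun v w => by rw [hB.add_left, mul_add]
      map_smul' := fun c v => by rw [hB.smul_left, RingHom.id_apply, smul_eq_mul]; ring }
  have hf : ∀ v, f v = a * B v u := fun _ => rfl
  have hfu : f u = 0 := by rw [hf, hu, mul_zero]
  refine ⟨LinearEquiv.transvection hfu, ⟨?_, ?_⟩, ?_⟩
  · intro v w
    have h1 : B u w = σ (B w u) := by have := hB.herm w u; rwa [one_mul] at this
    rw [LinearEquiv.transvection.apply, LinearEquiv.transvection.apply, hf, hf, hB.add_left, hB.add_right,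
      hB.add_right, hB.smul_left, hB.smul_left, hB.smul_right, hB.smul_right, hu, h1]
    show B v w + σ (a * B w u) * B v u + (a * B v u * σ (B w u) + _) = _
    rw [map_mul, ha]
    ring
  · refine MonoidHom.mem_ker.2 ?_
    apply Units.ext
    simp
  · intro v
    rw [LinearEquiv.transvection.apply, hf]

/-- **singular vectors are eigenvectors** -/
theorem sing_eig (hB : Frm (σ : F →+* F) 1 B) (hne : σ ≠ RingEquiv.refl F)
    (hnd : ∀ u, (∀ v, B u v = 0) → u = 0) {φ : F ≃+* F} {g : Equiv.Perm W} (hg : Semi φ g)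
    (h : ∀ y ∈ Iso B ⊓ (LinearEquiv.det (R := F) (M := W)).ker, ∃ c : F, ∀ v, g (y v) = c • y (g v)) {u : W}
    (hu : B u u = 0) : ∃ c : F, g u = c • u := by
  by_cases hu0 : u = 0
  · exact ⟨0, by rw [hu0, hg.zero, smul_zero]⟩
  obtain ⟨a, ha0, ha⟩ := Cfsg.Agent.H929.exists_trace_zero hB.sigma_sq hne
  obtain ⟨w, hw⟩ : ∃ w, B w u ≠ 0 := by
    by_contra hcon
    push Not at hcon
    exact hu0 (hnd u fun v => hB.eq_zero_comm.1 (hcon v))
  obtain ⟨y, hy, hyv⟩ := exists_tv hB hu ha
  obtain ⟨c, hc⟩ := h y hy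
  have e1 : ∀ v, g (v + (a * B v u) • u) = c • (g v + (a * B (g v) u) • u) := by
    intro v
    have := hc v
    rwa [hyv, hyv] at this
  by_cases hc1 : c = 1
  · have e2 := e1 w
    rw [hc1, one_smul, hg.add, add_right_inj, hg.smul] at e2
    refine ⟨(φ (a * B w u))⁻¹ * (a * B (g w) u), ?_⟩
    rw [mul_smul, ← e2, smul_smul, inv_mul_cancel₀, one_smul]
    simpa using ⟨ha0, hw⟩
  · have e2 := e1 u
    rw [hu, mul_zero, zero_smul, add_zero, smul_add] at e2
    have e3 : (1 - c) • g u = (c * (a * B (g u) u)) • u := by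
      rw [sub_smul, one_smul, mul_smul]
      nth_rw 1 [e2]
      abel
    refine ⟨(1 - c)⁻¹ * (c * (a * B (g u) u)), ?_⟩
    rw [mul_smul, ← e3, smul_smul, inv_mul_cancel₀ (sub_ne_zero.2 (Ne.symm hc1)), one_smul]

/-- a singular partner -/
theorem exists_partner (hB : Frm (σ : F →+* F) 1 B) (hne : σ ≠ RingEquiv.refl F) {P : Submodule F W} {u v : W}
    (hu : u ∈ P) (hv : v ∈ P) (huu : B u u = 0) (huv : B u v ≠ 0) : ∃ v' ∈ P, B v' v' = 0 ∧ B u v' = 1 := by
  obtain ⟨t, ht⟩ := Cfsg.Agent.H929.exists_trace_one hB.sigma_sq hne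
  -- normalize
  obtain ⟨x, hxP, hux⟩ : ∃ x ∈ P, B u x = 1 := by
    refine ⟨(σ (B u v)⁻¹) • v, P.smul_mem _ hv, ?_⟩
    rw [hB.smul_right]
    show σ (σ (B u v)⁻¹) * B u v = 1
    have h1 : σ (σ (B u v)⁻¹) = (B u v)⁻¹ := hB.sigma_sq _
    rw [h1, inv_mul_cancel₀ huv]
  have hxu : B x u = 1 := by
    have := hB.herm u x
    rw [one_mul, hux, map_one] at this
    exact this
  have hfx : σ (B x x) = B x x := by
    have := hB.herm x x
    rw [one_mul] at this
    exact this.symm
  refine ⟨x + (-(t * B x x)) • u, P.add_mem hxP (P.smul_mem _ hu), ?_, ?_⟩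
  · rw [hB.add_left, hB.add_right, hB.add_right, hB.smul_left, hB.smul_left, hB.smul_right, hB.smul_right, huu, hux, hxu]
    show B x x + σ (-(t * B x x)) * 1 + _ = 0
    rw [map_neg, map_mul, hfx]
    linear_combination (-(B x x)) * ht
  · rw [hB.add_right, hB.smul_right, huu, hux]
    ring

/-- the coefficient of a hyperbolic pair -/
theorem coef_zero (hB : Frm (σ : F →+* F) 1 B) (hne : σ ≠ RingEquiv.refl F) {φ : F ≃+* F} {g : Equiv.Perm W}
    (hg : Semi φ g) (hs : ∀ u, B u u = 0 → ∃ c : F, g u = c • u) {w u v : W} (hw : B w w ≠ 0) (huu : B u u = 0)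
    (hvv : B v v = 0) (huv : B u v = 1) (hwu : B w u = 0) (hwv : B w v = 0) :
    B (g w) v = 0 ∧ ∃ l y : F, g w = l • w + y • v := by
  obtain ⟨α, hα⟩ := hs u huu
  obtain ⟨β, hβ⟩ := hs v hvv
  obtain ⟨t, ht⟩ := Cfsg.Agent.H929.exists_trace_one hB.sigma_sq hne
  have hvu : B v u = 1 := by
    have := hB.herm u v
    rw [one_mul, huv, map_one] at this
    exact this
  have huw : B u w = 0 := hB.eq_zero_comm.1 hwu
  have hvw : B v w = 0 := hB.eq_zero_comm.1 hwv
  have hfw : σ (B w w) = B w w := by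
    have := hB.herm w w
    rw [one_mul] at this
    exact this.symm
  have key : ∀ k : F, k ≠ 0 → ∃ l b : F, g w = l • w + (l * k - φ k * α) • u + (l * b - φ b * β) • v := by
    intro k hk
    have hσk : σ k ≠ 0 := by simpa using hk
    set b : F := -(t * B w w) * (σ k)⁻¹ with hb
    obtain ⟨l, hl⟩ := hs (w + k • u + b • v) (by
      rw [hB.add_left, hB.add_left, hB.add_right, hB.add_right, hB.add_right, hB.add_right, hB.add_right,
        hB.add_right, hB.smul_left, hB.smul_left, hB.smul_left, hB.smul_left, hB.smul_left, hB.smul_left,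
        hB.smul_right, hB.smul_right, hB.smul_right, hB.smul_right, hB.smul_right, hB.smul_right, huu, hvv, huv, hvu,
        hwu, hwv, huw, hvw]
      show B w w + σ k * 0 + σ b * 0 + (k * 0 + k * (σ k * 0) + k * (σ b * 1)) +
        (b * 0 + b * (σ k * 1) + b * (σ b * 0)) = 0
      have h1 : σ b = -(σ t * B w w) * k⁻¹ := by
        have h2 : σ (σ k) = k := hB.sigma_sq k
        rw [hb, map_mul, map_neg, map_mul, hfw, map_inv₀, h2]
      have h3 : k * σ b = -(σ t * B w w) := by rw [h1]; field_simp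
      have h4 : b * σ k = -(t * B w w) := by rw [hb]; field_simp
      linear_combination h3 + h4 - (B w w) * ht)
    refine ⟨l, b, ?_⟩
    rw [hg.add, hg.add, hg.smul, hg.smul, hα, hβ, smul_smul, smul_smul, smul_add, smul_add, smul_smul, smul_smul] at hl
    have h5 : g w = l • w + (l * k) • u + (l * b) • v - (φ k * α) • u - (φ b * β) • v := by
      rw [← hl]; abel
    rw [h5, sub_smul, sub_smul]
    abel
  set A := B (g w) v with hA
  set lam := B (g w) w / B w w with hlam
  have key2 : ∀ k : F, k ≠ 0 → A = lam * k - φ k * α := by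
    intro k hk
    obtain ⟨l, b, h1⟩ := key k hk
    have h2 : B (g w) w = l * B w w := by
      rw [h1, hB.add_left, hB.add_left, hB.smul_left, hB.smul_left, hB.smul_left, huw, hvw]
      ring
    have h3 : lam = l := by rw [hlam, h2, mul_div_assoc, div_self hw, mul_one]
    rw [hA, h1, hB.add_left, hB.add_left, hB.smul_left, hB.smul_left, hB.smul_left, hwv, huv, hvv, h3]
    ring
  obtain ⟨k, hk⟩ : ∃ k, σ k ≠ k := by
    by_contra hc
    push Not at hc
    exact hne (RingEquiv.ext hc)
  have hk0 : k ≠ 0 := by rintro rfl; exact hk (map_zero σ)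
  have hk1 : k + 1 ≠ 0 := by
    intro h
    have : k = -1 := eq_neg_of_add_eq_zero_left h
    apply hk
    rw [this, map_neg, map_one]
  have hA0 : A = 0 := by
    have e1 := key2 k hk0
    have e2 := key2 (k + 1) hk1
    have e3 := key2 1 one_ne_zero
    rw [map_add, map_one] at e2
    rw [map_one] at e3
    linear_combination e1 + e3 - e2
  refine ⟨hA0, ?_⟩
  obtain ⟨l, b, h1⟩ := key 1 one_ne_zero
  have h2 : B (g w) v = l * 1 - φ 1 * α := by
    rw [h1, hB.add_left, hB.add_left, hB.smul_left, hB.smul_left, hB.smul_left, hwv, huv, hvv]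
    ring
  rw [← hA, hA0] at h2
  rw [← h2, zero_smul, add_zero] at h1
  exact ⟨l, _, h1⟩

variable [Finite F] [FiniteDimensional F W]

/-- **dimension at least three** -/
theorem isSc_of_sing (hB : Frm (σ : F →+* F) 1 B) (hne : σ ≠ RingEquiv.refl F)
    (hnd : ∀ u, (∀ v, B u v = 0) → u = 0) (h3 : 3 ≤ finrank F W) {φ : F ≃+* F} {g : Equiv.Perm W}
    (hg : Semi φ g) (hs : ∀ u, B u u = 0 → ∃ c : F, g u = c • u) : IsSc F (⇑g) := by
  apply isSc_of_eig (by omega) hg.add
  intro w
  by_cases hw : B w w = 0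
  · exact hs w hw
  have hw0 : w ≠ 0 := by rintro rfl; exact hw (hB.zero_left 0)
  have hperp := finrank_perp hB hnd (F ∙ w)
  rw [finrank_span_singleton hw0] at hperp
  obtain ⟨u, huP, hu0, huu⟩ := exists_sing hB hne (W := hB.perp (F ∙ w)) (by omega)
  have hwu := (mem_perp_span hB).1 huP
  obtain ⟨v0, hv0P, hv0⟩ : ∃ v ∈ hB.perp (F ∙ w), B u v ≠ 0 := by
    by_contra hcon
    push Not at hcon
    apply hu0
    apply hnd
    intro x
    have h1 : x - (B x w / B w w) • w ∈ hB.perp (F ∙ w) := by
      rw [mem_perp_span hB]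
      apply hB.eq_zero_comm.1
      rw [hB.sub_left, hB.smul_left, div_mul_cancel₀ _ hw, sub_self]
    have h2 := hcon _ h1
    rw [hB.sub_right, hB.smul_right, hB.eq_zero_comm.1 hwu, mul_zero, sub_zero] at h2
    exact h2
  obtain ⟨v, hvP, hvv, huv⟩ := exists_partner hB hne huP hv0P huu hv0
  have hwv := (mem_perp_span hB).1 hvP
  have hvu : B v u = 1 := by
    have := hB.herm u v
    rw [one_mul, huv, map_one] at this
    exact this
  obtain ⟨-, l, y, h1⟩ := coef_zero hB hne hg hs hw huu hvv huv hwu hwv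
  obtain ⟨h2, -⟩ := coef_zero hB hne hg hs hw hvv huu hvu hwv hwu
  refine ⟨l, ?_⟩
  rw [h1, hB.add_left, hB.smul_left, hB.smul_left, hwu, hvu, mul_zero, zero_add, mul_one] at h2
  rw [h1, h2, zero_smul, add_zero]

/-- **linear maps in dimension two** -/
theorem isSc_of_sing_two (hB : Frm (σ : F →+* F) 1 B) (hne : σ ≠ RingEquiv.refl F)
    (hnd : ∀ u, (∀ v, B u v = 0) → u = 0) (h2 : finrank F W = 2) {g : W ≃ₗ[F] W}
    (hs : ∀ u, B u u = 0 → ∃ c : F, g u = c • u) : IsSc F (⇑g) := by
  obtain ⟨u, -, hu0, huu⟩ := exists_sing hB hne (W := (⊤ : Submodule F W)) (by rw [finrank_top]; omega)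
  obtain ⟨v0, hv0⟩ : ∃ v, B u v ≠ 0 := by
    by_contra hcon
    push Not at hcon
    exact hu0 (hnd u hcon)
  obtain ⟨v, -, hvv, huv⟩ := exists_partner hB hne (P := ⊤) trivial trivial huu hv0
  have hvu : B v u = 1 := by
    have := hB.herm u v
    rw [one_mul, huv, map_one] at this
    exact this
  obtain ⟨e, he0, he⟩ := Cfsg.Agent.H929.exists_trace_zero hB.sigma_sq hne
  obtain ⟨α, hα⟩ := hs u huu
  obtain ⟨β, hβ⟩ := hs v hvv
  obtain ⟨l, hl⟩ := hs (u + e • v) (by
    rw [hB.add_left, hB.add_right, hB.add_right, hB.smul_left, hB.smul_left, hB.smul_right, hB.smul_right, huu, hvv,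
      huv, hvu]
    show 0 + σ e * 1 + (e * 1 + e * (σ e * 0)) = 0
    rw [he]; ring)
  rw [map_add, map_smul, hα, hβ] at hl
  have h4 : α = l := by
    have := congrArg (fun x => B x v) hl
    simp only [hB.add_left, hB.smul_left, huv, hvv] at this
    linear_combination this
  have h5 : β = l := by
    have := congrArg (fun x => B x u) hl
    simp only [hB.add_left, hB.smul_left, huu, hvu] at this
    have h6 : e * (β - l) = 0 := by linear_combination this
    exact sub_eq_zero.1 ((mul_eq_zero.1 h6).resolve_left he0)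
  have hli : LinearIndependent F ![u, v] := by
    rw [LinearIndependent.pair_iff]
    intro a b hab
    have e1 := congrArg (fun x => B x v) hab
    have e2 := congrArg (fun x => B x u) hab
    simp only [hB.add_left, hB.smul_left, huv, hvv, huu, hvu, hB.zero_left] at e1 e2
    exact ⟨by linear_combination e1, by linear_combination e2⟩
  have hsp : ⊤ ≤ Submodule.span F (Set.range ![u, v]) := by
    rw [hli.span_eq_top_of_card_eq_finrank' (by rw [h2, Fintype.card_fin])]
  refine ⟨l, fun x => ?_⟩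
  have hx : x ∈ Submodule.span F (Set.range ![u, v]) := hsp trivial
  rw [Matrix.range_cons, Matrix.range_cons, Matrix.range_empty, Set.union_empty, Set.singleton_union,
    Submodule.mem_span_pair] at hx
  obtain ⟨a, b, rfl⟩ := hx
  rw [map_add, map_smul, map_smul, hα, hβ, h4, h5, smul_add]
  rw [smul_comm a l, smul_comm b l]

end Cfsg.Agent.H383.Pi
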